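import Mathlib

/-!
# S3691, `suz_small` for helper997: a group of Suzuki type on a two-dimensional space over `2 ^ (2 b)` elements (helper376)
-/

set_option autoImplicit false
set_option linter.unusedSectionVars false

open Module

namespace Cfsg.Agent.H376.Rg997

universe u v w

section core

variable {D : Type u} [DivisionRing D] [Finite D] {W : Type w} [AddCommGroup W] [Module D W] [Finite W]
  {G : Type v} [Group G] [Finite G] (ρ : G →* Module.End D W)

theorem pow_card_eq (d : D) : d ^ Nat.card D = d := by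
  have := Fintype.ofFinite D
  rw [Nat.card_eq_fintype_card]
  exact FiniteField.pow_card d

theorem card_span {w : W} (hw : w ≠ 0) : Nat.card (Submodule.span D {w}) = Nat.card D := by
  rw [Module.natCard_eq_pow_finrank (K := D), finrank_span_singleton hw, pow_one]

/-- an involution in a nontrivial `2`-group fixing `u` -/
theorem exists_inv {P : Subgroup G} (hP : IsPGroup 2 P) {z : G} (hz : z ∈ P) (hz1 : z ≠ 1) {u : W} (hu : ρ z u = u) :
    ∃ t ∈ P, t * t = 1 ∧ t ≠ 1 ∧ ρ t u = u := by
  obtain ⟨k, hk⟩ := (IsPGroup.iff_orderOf.1 hP) ⟨z, hz⟩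
  rw [Subgroup.orderOf_mk] at hk
  obtain ⟨j, rfl⟩ : ∃ j, k = j + 1 := by
    refine Nat.exists_eq_succ_of_ne_zero ?_
    rintro rfl
    rw [pow_zero, orderOf_eq_one_iff] at hk
    exact hz1 hk
  refine ⟨z ^ 2 ^ j, P.pow_mem hz _, ?_, ?_, ?_⟩
  · rw [← pow_two, ← pow_mul, ← pow_succ, ← hk, pow_orderOf_eq_one]
  · intro h
    have h1 := orderOf_dvd_of_pow_eq_one h
    rw [hk] at h1
    have h2 := (Nat.pow_dvd_pow_iff_le_right (le_refl 2)).1 h1
    omega
  · have : ∀ n : ℕ, ρ (z ^ n) u = u := by
      intro n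
      induction n with
      | zero => rw [pow_zero, map_one]; rfl
      | succ n ih => rw [pow_succ, map_mul, Module.End.mul_apply, hu, ih]
    exact this _

theorem core {N M a : ℕ} (hN : N = 2 ^ a) (ha : 0 < a) (hD : Nat.card D = N) (hW : Nat.card W = N ^ 2)
    (hG : Nat.card G = N * M) (hM : Odd M) (hMN : M < N ^ 2 - N)
    (hinv : ∀ t : G, t * t = 1 → t ≠ 1 → Nat.card (LinearMap.ker (ρ t - 1 : Module.End D W)) = N)
    (hfix : ∀ P : Subgroup G, IsPGroup 2 P → ∃ w : W, w ≠ 0 ∧ ∀ x ∈ P, ρ x w = w)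
    (hirr : ∀ U : Submodule D W, (∀ g, ∀ u ∈ U, ρ g u ∈ U) → U = ⊥ ∨ U = ⊤) : False := by
  classical
  have h2p : Fact (Nat.Prime 2) := ⟨Nat.prime_two⟩
  have hN1 : 1 < N := by rw [hN]; exact Nat.one_lt_two_pow ha.ne'
  obtain ⟨P⟩ : Nonempty (Sylow 2 G) := inferInstance
  have hPN : Nat.card P = N := by
    rw [P.card_eq_multiplicity, hG, hN, Nat.factorization_mul (pow_ne_zero _ two_ne_zero) hM.pos.ne', Finsupp.add_apply,
      Nat.Prime.factorization_pow Nat.prime_two, Finsupp.single_eq_same,
      Nat.factorization_eq_zero_of_not_dvd (fun h => (Nat.not_even_iff_odd.2 hM) (even_iff_two_dvd.2 h)), add_zero]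
  obtain ⟨w0, hw0, hPw0⟩ := hfix P P.isPGroup'
  set L : Submodule D W := Submodule.span D {w0} with hL
  have hLN : Nat.card L = N := by rw [← hD]; exact card_span hw0
  have hw0L : w0 ∈ L := Submodule.mem_span_singleton_self w0
  -- involutions of `P`
  have hker : ∀ t ∈ P, t * t = 1 → t ≠ 1 → ∀ u, ρ t u = u → u ∈ L := by
    intro t ht htt ht1 u hu
    have h1 : L ≤ LinearMap.ker (ρ t - 1 : Module.End D W) := by
      rw [hL, Submodule.span_singleton_le_iff_mem, LinearMap.mem_ker, LinearMap.sub_apply, hPw0 t ht]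
      exact sub_self _
    have h2 : (L : Set W) = (LinearMap.ker (ρ t - 1 : Module.End D W) : Set W) := by
      refine Set.eq_of_subset_of_ncard_le h1 ?_ (Set.toFinite _)
      have h3 := hinv t htt ht1
      have e1 : (L : Set W).ncard = N := hLN
      have e2 : (LinearMap.ker (ρ t - 1 : Module.End D W) : Set W).ncard = N := h3
      rw [e1, e2]
    have h3 : u ∈ (LinearMap.ker (ρ t - 1 : Module.End D W) : Set W) := by
      rw [SetLike.mem_coe, LinearMap.mem_ker, LinearMap.sub_apply, hu]
      exact sub_self _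
    rw [← h2] at h3
    exact h3
  have hfree : ∀ u, u ∉ L → ∀ x ∈ P, ∀ x' ∈ P, ρ x u = ρ x' u → x = x' := by
    intro u hu x hx x' hx' he
    by_contra hne
    have h1 : ρ (x'⁻¹ * x) u = u := by
      rw [map_mul, Module.End.mul_apply, he, ← Module.End.mul_apply, ← map_mul, inv_mul_cancel, map_one]
      rfl
    obtain ⟨t, ht, htt, ht1, htu⟩ := exists_inv ρ P.isPGroup' (P.mul_mem (P.inv_mem hx') hx)
      (fun h => hne (inv_mul_eq_one.1 h).symm) h1
    exact hu (hker t ht htt ht1 u htu)
  -- the dimension is two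
  have hfr : finrank D W = 2 := by
    have h1 := Module.natCard_eq_pow_finrank (K := D) (V := W)
    rw [hW, hD] at h1
    exact (Nat.pow_right_injective hN1 h1).symm
  have hspan : ∀ u, u ∉ L → ∀ v : W, ∃ c d : D, v = c • u + d • w0 := by
    intro u hu v
    have hli : LinearIndependent D ![u, w0] := by
      rw [LinearIndependent.pair_iff]
      intro s t hst
      have hs : s = 0 := by
        by_contra hs
        apply hu
        rw [hL, Submodule.mem_span_singleton]
        refine ⟨-(s⁻¹ * t), ?_⟩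
        have h1 : s • u = - (t • w0) := eq_neg_of_add_eq_zero_left hst
        rw [neg_smul, mul_smul, ← smul_neg, ← h1, smul_smul, inv_mul_cancel₀ hs, one_smul]
      refine ⟨hs, ?_⟩
      rw [hs, zero_smul, zero_add] at hst
      exact (smul_eq_zero.1 hst).resolve_right hw0
    have h1 : Submodule.span D (Set.range ![u, w0]) = ⊤ :=
      hli.span_eq_top_of_card_eq_finrank (by rw [hfr]; rfl)
    have h2 : v ∈ Submodule.span D (Set.range ![u, w0]) := by rw [h1]; trivial
    rw [Matrix.range_cons, Matrix.range_cons, Matrix.range_empty, Set.union_empty, Set.singleton_union,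
      Submodule.mem_span_pair] at h2
    obtain ⟨c, d, h⟩ := h2
    exact ⟨c, d, h.symm⟩
  -- `P` acts trivially on `W / L`
  have htriv : ∀ u, u ∉ L → ∀ x ∈ P, ρ x u - u ∈ L := by
    intro u hu x hx
    obtain ⟨c, d, hcd⟩ := hspan u hu (ρ x u)
    have h1 : ∀ n : ℕ, ρ (x ^ n) u - c ^ n • u ∈ L := by
      intro n
      induction n with
      | zero =>
        rw [pow_zero, map_one, pow_zero, one_smul, Module.End.one_apply, sub_self]
        exact L.zero_mem
      | succ n ih =>
        have h2 : ρ (x ^ (n + 1)) u = c • ρ (x ^ n) u + d • w0 := by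
          rw [pow_succ, map_mul, Module.End.mul_apply, hcd, map_add, map_smul, map_smul, hPw0 _ (P.pow_mem hx n)]
        rw [h2, pow_succ', mul_smul, add_sub_right_comm, ← smul_sub]
        exact L.add_mem (L.smul_mem _ ih) (L.smul_mem _ hw0L)
    have h2 : x ^ N = 1 := by
      have h3 : (⟨x, hx⟩ : P) ^ Nat.card P = 1 := pow_card_eq_one'
      rw [hPN] at h3
      exact congrArg Subtype.val h3
    have h3 := h1 N
    rw [h2, map_one, Module.End.one_apply, ← hD, pow_card_eq] at h3
    have h4 : (1 - c) • u ∈ L := by rwa [sub_smul, one_smul]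
    have h5 : c = 1 := by
      by_contra hc
      have hc' : (1 - c) ≠ 0 := sub_ne_zero.2 (Ne.symm hc)
      exact hu ((L.smul_mem_iff hc').1 h4)
    rw [hcd, h5, one_smul, add_sub_cancel_left]
    exact L.smul_mem _ hw0L
  -- `P` is transitive on `u + L`
  have htrans : ∀ u, u ∉ L → ∀ l ∈ L, ∃ x ∈ P, ρ x u = u + l := by
    intro u hu l hl
    let φ : P → L := fun x => ⟨ρ x u - u, htriv u hu x x.2⟩
    have hφi : Function.Injective φ := by
      intro x x' he
      have h1 : ρ (x : G) u - u = ρ (x' : G) u - u := congrArg Subtype.val he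
      exact Subtype.ext (hfree u hu x x.2 x' x'.2 (sub_left_injective h1))
    have hφb : Function.Bijective φ := by
      have : Fintype P := Fintype.ofFinite _
      have : Fintype L := Fintype.ofFinite _
      rw [Fintype.bijective_iff_injective_and_card]
      refine ⟨hφi, ?_⟩
      rw [← Nat.card_eq_fintype_card, ← Nat.card_eq_fintype_card]
      exact hPN.trans hLN.symm
    obtain ⟨x, hx⟩ := hφb.2 ⟨l, hl⟩
    refine ⟨x, x.2, ?_⟩
    have h1 : ρ (x : G) u - u = l := congrArg Subtype.val hx
    rw [← h1]; abel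
  -- some conjugate of `L` is different
  have hex : ∃ g, ρ g w0 ∉ L := by
    by_contra hcon
    push Not at hcon
    rcases hirr L (fun g u hu => by
      rw [hL, Submodule.mem_span_singleton] at hu
      obtain ⟨c, rfl⟩ := hu
      rw [map_smul]
      exact L.smul_mem _ (hcon g)) with h | h
    · rw [h, Submodule.mem_bot] at hw0L
      exact hw0 hw0L
    · have h1 : Nat.card L = Nat.card W := by
        rw [h]
        exact Nat.card_congr (Equiv.Set.univ W)
      rw [hLN, hW] at h1
      have : N * 1 < N * N := Nat.mul_lt_mul_of_pos_left hN1 (by omega)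
      rw [pow_two] at h1
      omega
  obtain ⟨g1, hg1⟩ := hex
  have hall : ∀ w, w ≠ 0 → ∃ (g : G) (d : D), w = d • ρ g w0 := by
    intro w hw
    by_cases hwL : w ∈ L
    · rw [hL, Submodule.mem_span_singleton] at hwL
      obtain ⟨c, rfl⟩ := hwL
      exact ⟨1, c, by rw [map_one]; rfl⟩
    · obtain ⟨c, d, hcd⟩ := hspan _ hg1 w
      have hc : c ≠ 0 := by
        rintro rfl
        apply hwL
        rw [hcd, zero_smul, zero_add]
        exact L.smul_mem _ hw0L
      obtain ⟨x, hx, hxw⟩ := htrans _ hg1 ((c⁻¹ * d) • w0) (L.smul_mem _ hw0L)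
      refine ⟨x * g1, c, ?_⟩
      rw [map_mul, Module.End.mul_apply, hxw, smul_add, smul_smul, mul_inv_cancel_left₀ hc]
      exact hcd
  -- the orbit of `w0`
  have horb : ∀ v, v ∉ L → ∃ g, ρ g w0 = v := by
    intro v hv
    have hw : v - w0 ≠ 0 := by
      intro h
      rw [sub_eq_zero] at h
      exact hv (by rw [h]; exact hw0L)
    obtain ⟨g, d, hgd⟩ := hall _ hw
    have hinvg : ∀ z : W, ρ g (ρ g⁻¹ z) = z := by
      intro z
      rw [← Module.End.mul_apply, ← map_mul, mul_inv_cancel, map_one]; rfl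
    have hinvg' : ∀ z : W, ρ g⁻¹ (ρ g z) = z := by
      intro z
      rw [← Module.End.mul_apply, ← map_mul, inv_mul_cancel, map_one]; rfl
    have h1 : ρ g⁻¹ w0 ∉ L := by
      intro h
      rw [hL, Submodule.mem_span_singleton] at h
      obtain ⟨c, hc⟩ := h
      have hc0 : c ≠ 0 := by
        rintro rfl
        rw [zero_smul] at hc
        have h2 := hinvg w0
        rw [← hc, map_zero] at h2
        exact hw0 h2.symm
      have h2 : ρ g w0 = c⁻¹ • w0 := by
        have h3 : ρ g (c • w0) = w0 := by rw [hc, hinvg]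
        rw [map_smul] at h3
        rw [← h3, smul_smul, inv_mul_cancel₀ hc0, one_smul]
        rw [h3]
      apply hv
      have h3 : v = (v - w0) + w0 := by abel
      rw [h3, hgd, h2, smul_smul]
      exact L.add_mem (L.smul_mem _ hw0L) hw0L
    obtain ⟨x, hx, hxw⟩ := htrans _ h1 (d • w0) (L.smul_mem _ hw0L)
    refine ⟨g * x * g⁻¹, ?_⟩
    rw [map_mul, map_mul, Module.End.mul_apply, Module.End.mul_apply, hxw, map_add, hinvg, map_smul, ← hgd]
    abel
  -- counting
  let T : Set W := {v | v ∉ L}
  have hT : Nat.card T = N ^ 2 - N := by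
    have h1 : T = (L : Set W)ᶜ := rfl
    have h2 : (L : Set W).ncard + ((L : Set W)ᶜ).ncard = Nat.card W := Set.ncard_add_ncard_compl _
    have h3 : (L : Set W).ncard = N := hLN
    rw [h3, hW] at h2
    have h4 : Nat.card T = ((L : Set W)ᶜ).ncard := rfl
    omega
  choose! γ hγ using horb
  let Φ : T × P → G := fun z => γ z.1 * z.2
  have hΦ : Function.Injective Φ := by
    rintro ⟨v, x⟩ ⟨v', x'⟩ he
    have he' : γ v * x = γ v' * x' := he
    have h1 : ρ (γ v * x) w0 = v := by
      rw [map_mul, Module.End.mul_apply, hPw0 x x.2, hγ v v.2]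
    have h2 : ρ (γ v' * x') w0 = v' := by
      rw [map_mul, Module.End.mul_apply, hPw0 x' x'.2, hγ v' v'.2]
    have h3 : v = v' := Subtype.ext (by rw [← h1, ← h2, he'])
    subst h3
    have h4 : (x : G) = x' := mul_left_cancel he'
    rw [Subtype.ext h4]
  have h1 := Nat.card_le_card_of_injective Φ hΦ
  rw [Nat.card_prod, hT, hPN, hG, mul_comm] at h1
  have h2 := Nat.le_of_mul_le_mul_left h1 (by omega)
  omega

end core

end Cfsg.Agent.H376.Rg997
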